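import Cfsg.Agent.R01.Lifts
import Cfsg.Agent.KFacts.MulDef
import Cfsg.Agent.KFacts.MulBound
import Cfsg.Agent.MonsterN.CoverB

-- merged: Cfsg.Agent.KFacts.MulEven.Reduce
section

/-!
# The 2-part of the Schur multiplier has order at most 2

`card_le_two`: let `X` be a group such that two perfect double covers of `X` are isomorphic over `X` (`iso`) and every
perfect double cover contains an element `x` with `x² = 1` which is conjugate to `x z` (`conj`).  If `K` is finite and
perfect, `f : K → X` is surjective with central kernel a 2-group, then `|ker f| ≤ 2`.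
-/

set_option autoImplicit false

namespace Cfsg.Agent.KFacts.MulEven

open Subgroup Cfsg.Agent.R01.Lifts
open scoped commutatorElement

universe u v

/-- Uniqueness of the double cover. -/
def Iso (X : Type v) [Group X] : Prop :=
  ∀ (M M' : Type u) [Group M] [Group M'] (π : M →* X) (π' : M' →* X) (z : M) (z' : M'), Ext π z → Ext π' z' →
    commutator M = ⊤ → commutator M' = ⊤ → ∃ α : M ≃* M', ∀ x, π' (α x) = π x

/-- In the double cover some involution `x` is conjugate to `x z`. -/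
def Con (X : Type v) [Group X] : Prop :=
  ∀ (M : Type u) [Group M] (π : M →* X) (z : M), Ext π z → commutator M = ⊤ →
    ∃ g x : M, x * x = 1 ∧ g * x * g⁻¹ = x * z

variable {K : Type u} [Group K] {X : Type v} [Group X]

theorem index_two {f : K →* X} {N : Subgroup K} (hN : N ≤ f.ker) [Finite f.ker]
    (hcard : Nat.card f.ker = 2 * Nat.card N) {a b : K} (ha : a ∈ f.ker) (hb : b ∈ f.ker) :
    a * b ∈ N ↔ (a ∈ N ↔ b ∈ N) := by
  have hidx : (N.subgroupOf f.ker).index = 2 := by
    have h1 := (N.subgroupOf f.ker).card_mul_index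
    rw [Nat.card_congr (subgroupOfEquivOfLe hN).toEquiv, hcard, mul_comm] at h1
    have : Finite N := Finite.of_injective _ (inclusion_injective hN)
    exact Nat.eq_of_mul_eq_mul_right Nat.card_pos h1
  have := Subgroup.mul_mem_iff_of_index_two hidx (a := ⟨a, ha⟩) (b := ⟨b, hb⟩)
  simpa only [mem_subgroupOf, coe_mul] using this

theorem ext_of {f : K →* X} (hf : Function.Surjective f) {N : Subgroup K} [N.Normal] (hN : N ≤ f.ker)
    (hZ : f.ker ≤ center K) [Finite f.ker] (hcard : Nat.card f.ker = 2 * Nat.card N) {z : K} (hz : z ∈ f.ker)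
    (hzN : z ∉ N) :
    Ext (QuotientGroup.lift N f hN) (QuotientGroup.mk' N z) where
  surj := fun y => (hf y).imp' (QuotientGroup.mk' N) fun x hx => hx
  zz := by
    rw [← map_mul]
    exact (QuotientGroup.eq_one_iff _).2 ((index_two hN hcard hz hz).2 Iff.rfl)
  zne := fun h => hzN ((QuotientGroup.eq_one_iff z).1 h)
  ker := by
    intro c
    obtain ⟨c, rfl⟩ := QuotientGroup.mk'_surjective N c
    have e : QuotientGroup.lift N f hN (QuotientGroup.mk' N c) = f c := rfl
    rw [e]
    constructor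
    · intro h
      by_cases h1 : c ∈ N
      · exact Or.inl ((QuotientGroup.eq_one_iff c).2 h1)
      · refine Or.inr (QuotientGroup.eq.2 ((index_two hN hcard (inv_mem (show c ∈ f.ker from h)) hz).2 ?_))
        rw [inv_mem_iff]
        exact iff_of_false h1 hzN
    · rintro (h | h)
      · exact hN ((QuotientGroup.eq_one_iff c).1 h)
      · have h1 : c⁻¹ * z ∈ N := QuotientGroup.eq.1 h
        have h2 := f.ker.mul_mem hz (f.ker.inv_mem (hN h1))
        have h3 : z * (c⁻¹ * z)⁻¹ = c := by group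
        rwa [h3] at h2
  comm := by
    intro c
    obtain ⟨c, rfl⟩ := QuotientGroup.mk'_surjective N c
    rw [← map_mul, ← map_mul, mem_center_iff.1 (hZ hz) c]

theorem normal_of_le {f : K →* X} {N : Subgroup K} (hN : N ≤ f.ker) (hZ : f.ker ≤ center K) : N.Normal :=
  ⟨fun n hn g => by rw [mem_center_iff.1 (hZ (hN hn)) g, mul_inv_cancel_right]; exact hn⟩

theorem perfect_quot (hK : commutator K = ⊤) (N : Subgroup K) [N.Normal] : commutator (K ⧸ N) = ⊤ :=
  MulDef.commutator_top_of_surj (QuotientGroup.mk' N) (QuotientGroup.mk'_surjective N) hK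

/-- The case `|ker| = 4`. -/
theorem false_of_four (hK : commutator K = ⊤) {f : K →* X} (hf : Function.Surjective f)
    (hZ : f.ker ≤ center K) (h4 : Nat.card f.ker = 4) (iso : Iso.{u} X) (con : Con.{u} X) : False := by
  have hfin : Finite f.ker := Nat.finite_of_card_ne_zero (by rw [h4]; norm_num)
  by_cases h : ∃ y ∈ f.ker, orderOf y = 4
  · obtain ⟨y, hy, hy4⟩ := h
    have hyZ : zpowers y = f.ker := by
      refine eq_of_le_of_card_ge (by rwa [zpowers_le]) ?_
      rw [h4, Nat.card_zpowers, hy4]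
    have hN : zpowers (y ^ 2) ≤ f.ker := by rw [zpowers_le]; exact pow_mem hy 2
    have hn := normal_of_le hN hZ
    have hN2 : ∀ n ∈ zpowers (y ^ 2), n * n = 1 := by
      rintro n ⟨k, rfl⟩
      show (y ^ 2) ^ k * (y ^ 2) ^ k = 1
      have h5 : y ^ (2 * 2) = 1 := by
        have := pow_orderOf_eq_one y
        rwa [hy4] at this
      rw [← zpow_add, ← two_mul, zpow_mul, zpow_ofNat, ← pow_mul, h5, one_zpow]
    have hyN : y ∉ zpowers (y ^ 2) := by
      intro h1
      have h2 := hN2 y h1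
      rw [← pow_two] at h2
      have := orderOf_dvd_of_pow_eq_one h2
      rw [hy4] at this
      omega
    have hcard : Nat.card f.ker = 2 * Nat.card (zpowers (y ^ 2)) := by
      have h5 : Nat.card (zpowers (y ^ 2)) = 2 := by
        rw [Nat.card_zpowers]
        refine orderOf_eq_prime ?_ ?_
        · rw [pow_two]; exact hN2 _ (mem_zpowers _)
        · intro h6
          have := orderOf_dvd_of_pow_eq_one h6
          rw [hy4] at this
          omega
      rw [h5, h4]
    have hext := ext_of hf hN hZ hcard hy hyN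
    obtain ⟨g, x, hx, hg⟩ := con _ _ _ hext (perfect_quot hK _)
    obtain ⟨g, rfl⟩ := QuotientGroup.mk'_surjective _ g
    obtain ⟨x, rfl⟩ := QuotientGroup.mk'_surjective _ x
    rw [← map_mul] at hx
    have hx2 : x * x ∈ zpowers (y ^ 2) := (QuotientGroup.eq_one_iff _).1 hx
    rw [← map_mul, ← map_mul, ← map_inv, ← map_mul] at hg
    have hw : (g * x * g⁻¹)⁻¹ * (x * y) ∈ zpowers (y ^ 2) := QuotientGroup.eq.1 hg
    -- `g x g⁻¹ = x * w`
    obtain ⟨n, hn', hgx⟩ : ∃ n ∈ zpowers (y ^ 2), g * x * g⁻¹ = x * (y * n) := by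
      refine ⟨((g * x * g⁻¹)⁻¹ * (x * y))⁻¹, inv_mem hw, ?_⟩
      group
    have cy : ∀ a, a * y = y * a := fun a => mem_center_iff.1 (hZ hy) a
    have cn : ∀ a, a * n = n * a := fun a => mem_center_iff.1 (hZ (hN hn')) a
    have cx : ∀ a, a * (x * x) = x * x * a := fun a => mem_center_iff.1 (hZ (hN hx2)) a
    have e1 : g * x * g⁻¹ * (g * x * g⁻¹) = x * x := by
      calc g * x * g⁻¹ * (g * x * g⁻¹) = g * (x * x) * g⁻¹ := by group
        _ = x * x := by rw [cx, mul_inv_cancel_right]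
    have e2 : x * (y * n) * (x * (y * n)) = x * x * (y * y) := by
      calc x * (y * n) * (x * (y * n)) = x * y * (n * x) * y * n := by group
        _ = x * y * (x * n) * y * n := by rw [cn x]
        _ = x * (y * x) * (n * y) * n := by group
        _ = x * (x * y) * (y * n) * n := by rw [cy x, cn y]
        _ = x * x * (y * y) * (n * n) := by group
        _ = x * x * (y * y) := by rw [hN2 n hn', mul_one]
    rw [hgx, e2] at e1
    have e3 : y * y = 1 := by
      have := congrArg (fun t => (x * x)⁻¹ * t) e1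
      simpa only [inv_mul_cancel_left, inv_mul_cancel] using this
    rw [← pow_two] at e3
    have := orderOf_dvd_of_pow_eq_one e3
    rw [hy4] at this
    omega
  · push Not at h
    have hsq : ∀ y ∈ f.ker, y * y = 1 := by
      intro y hy
      have h1 : orderOf y ∣ 4 := by
        have := orderOf_dvd_natCard (⟨y, hy⟩ : f.ker)
        rwa [h4, Subgroup.orderOf_mk] at this
      have h2 := h y hy
      have h3 : orderOf y ∣ 2 := by
        have h5 : orderOf y ∈ Nat.divisors 4 := Nat.mem_divisors.2 ⟨h1, by norm_num⟩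
        have h6 : Nat.divisors 4 = {1, 2, 4} := by decide
        rw [h6] at h5
        simp only [Finset.mem_insert, Finset.mem_singleton] at h5
        rcases h5 with h5 | h5 | h5
        · rw [h5]; norm_num
        · rw [h5]
        · exact absurd h5 h2
      rw [← pow_two]
      exact orderOf_dvd_iff_pow_eq_one.1 h3
    -- two different elements
    obtain ⟨z₁, hz₁, h1⟩ : ∃ z ∈ f.ker, z ≠ 1 := by
      by_contra hcon
      push Not at hcon
      have : f.ker = ⊥ := (eq_bot_iff_forall _).2 hcon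
      rw [this, card_bot] at h4
      omega
    have hz12 : ∀ z : K, z * z = 1 → ∀ n, n ∈ zpowers z ↔ n = 1 ∨ n = z := by
      intro z hz n
      constructor
      · rintro ⟨k, rfl⟩
        show z ^ k = 1 ∨ z ^ k = z
        rcases Int.even_or_odd' k with ⟨j, rfl | rfl⟩
        · left; rw [zpow_mul, zpow_ofNat, pow_two, hz, one_zpow]
        · right; rw [zpow_add_one, zpow_mul, zpow_ofNat, pow_two, hz, one_zpow, one_mul]
      · rintro (rfl | rfl)
        · exact one_mem _
        · exact mem_zpowers _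
    obtain ⟨z₂, hz₂, h2⟩ : ∃ z ∈ f.ker, z ∉ zpowers z₁ := by
      by_contra hcon
      push Not at hcon
      have h3 : f.ker ≤ zpowers z₁ := hcon
      have h5 : f.ker = zpowers z₁ := le_antisymm h3 (by rwa [zpowers_le])
      have h6 : orderOf z₁ = 4 := by rw [← Nat.card_zpowers, ← h5, h4]
      exact h z₁ hz₁ h6
    have h21 : z₂ ≠ 1 ∧ z₂ ≠ z₁ := by
      rw [hz12 z₁ (hsq z₁ hz₁)] at h2
      push Not at h2
      exact h2
    have hN₁ : zpowers z₁ ≤ f.ker := by rwa [zpowers_le]
    have hN₂ : zpowers z₂ ≤ f.ker := by rwa [zpowers_le]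
    have hn₁ := normal_of_le hN₁ hZ
    have hn₂ := normal_of_le hN₂ hZ
    have hc2 : ∀ z : K, z ∈ f.ker → z ≠ 1 → Nat.card f.ker = 2 * Nat.card (zpowers z) := by
      intro z hz hz1
      rw [Nat.card_zpowers, orderOf_eq_prime (p := 2) (by rw [pow_two]; exact hsq z hz) hz1, h4]
    have hext₁ := ext_of (N := zpowers z₁) hf hN₁ hZ (hc2 z₁ hz₁ h1) hz₂ h2
    have h1' : z₁ ∉ zpowers z₂ := by
      rw [hz12 z₂ (hsq z₂ hz₂)]
      rintro (h | h)
      · exact h1 h
      · exact h21.2 h.symm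
    have hext₂ := ext_of (N := zpowers z₂) hf hN₂ hZ (hc2 z₂ hz₂ h21.1) hz₁ h1'
    obtain ⟨α, hα⟩ := iso _ _ _ _ _ _ hext₁ hext₂ (perfect_quot hK _) (perfect_quot hK _)
    -- the two homomorphisms agree
    let q₁ := QuotientGroup.mk' (zpowers z₁)
    let q₂ := QuotientGroup.mk' (zpowers z₂)
    let ψ : K →* K ⧸ zpowers z₂ := α.toMonoidHom.comp q₁
    have hπ : ∀ k, QuotientGroup.lift (zpowers z₂) f hN₂ (ψ k) = f k := fun k => hα (q₁ k)
    have hd : ∀ k, ∃ c, (∀ m, m * c = c * m) ∧ q₂ k = ψ k * c := by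
      intro k
      have h3 : QuotientGroup.lift (zpowers z₂) f hN₂ ((ψ k)⁻¹ * q₂ k) = 1 := by
        rw [map_mul, map_inv, hπ]
        exact inv_mul_cancel _
      refine ⟨(ψ k)⁻¹ * q₂ k, ?_, (mul_inv_cancel_left _ _).symm⟩
      rcases (hext₂.ker _).1 h3 with h5 | h5
      · rw [h5]; intro m; rw [mul_one, one_mul]
      · rw [h5]; exact hext₂.comm
    have hle : commutator K ≤ q₂.eqLocus ψ := by
      rw [_root_.commutator_def, Subgroup.commutator_le]
      intro a _ b _
      obtain ⟨ca, ha, ha'⟩ := hd a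
      obtain ⟨cb, hb, hb'⟩ := hd b
      show q₂ ⁅a, b⁆ = ψ ⁅a, b⁆
      rw [map_commutatorElement, map_commutatorElement, ha', hb', commutatorElement_def,
        commutatorElement_def, mul_inv_rev, mul_inv_rev]
      have hai : ∀ m, m * ca⁻¹ = ca⁻¹ * m := fun m => by
        rw [mul_inv_eq_iff_eq_mul, mul_assoc, ha m, inv_mul_cancel_left]
      have hbi : ∀ m, m * cb⁻¹ = cb⁻¹ * m := fun m => by
        rw [mul_inv_eq_iff_eq_mul, mul_assoc, hb m, inv_mul_cancel_left]
      calc ψ a * ca * (ψ b * cb) * (ca⁻¹ * (ψ a)⁻¹) * (cb⁻¹ * (ψ b)⁻¹)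
          = ψ a * (ca * (ψ b * cb) * ca⁻¹) * (ψ a)⁻¹ * (cb⁻¹ * (ψ b)⁻¹) := by group
        _ = ψ a * (ψ b * cb) * (ψ a)⁻¹ * (cb⁻¹ * (ψ b)⁻¹) := by
            rw [← ha (ψ b * cb), mul_inv_cancel_right]
        _ = ψ a * ψ b * (cb * (ψ a)⁻¹ * cb⁻¹) * (ψ b)⁻¹ := by group
        _ = ψ a * ψ b * (ψ a)⁻¹ * (ψ b)⁻¹ := by rw [← hb (ψ a)⁻¹, mul_inv_cancel_right]
    rw [hK] at hle
    have h3 : q₂ z₁ = ψ z₁ := hle (mem_top z₁)
    have h5 : q₁ z₁ = 1 := (QuotientGroup.eq_one_iff z₁).2 (mem_zpowers z₁)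
    have h6 : ψ z₁ = 1 := by
      show α (q₁ z₁) = 1
      rw [h5, map_one]
    rw [h6] at h3
    exact h1' ((QuotientGroup.eq_one_iff z₁).1 h3)

/-- **The 2-part of the multiplier has order at most 2.** -/
theorem card_le_two [Finite K] (hK : commutator K = ⊤) {f : K →* X} (hf : Function.Surjective f)
    (hZ : f.ker ≤ center K) (h2 : IsPGroup 2 f.ker) (iso : Iso.{u} X) (con : Con.{u} X) :
    Nat.card f.ker ≤ 2 := by
  by_contra hcon
  push Not at hcon
  have : Fact (Nat.Prime 2) := ⟨Nat.prime_two⟩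
  obtain ⟨n, hn⟩ := h2.exists_card_eq
  have hn2 : 2 ≤ n := by
    by_contra h
    have : n = 0 ∨ n = 1 := by omega
    rcases this with rfl | rfl <;> · rw [hn] at hcon; norm_num at hcon
  obtain ⟨m, rfl⟩ : ∃ m, n = m + 2 := ⟨n - 2, by omega⟩
  obtain ⟨Z₁, hZ₁, hc₁⟩ := MulDef.exists_index_two hZ (by rw [hn]; exact dvd_pow_self 2 (by omega))
  have hc₁' : Nat.card Z₁ = 2 ^ (m + 1) := by
    have h : 2 * 2 ^ (m + 1) = 2 * Nat.card Z₁ := by rw [← hc₁, hn]; ring
    omega
  obtain ⟨Z₂, hZ₂, hc₂⟩ := MulDef.exists_index_two (hZ₁.trans hZ) (by rw [hc₁']; exact dvd_pow_self 2 (by omega))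
  have hN : Z₂ ≤ f.ker := hZ₂.trans hZ₁
  have hnor := normal_of_le hN hZ
  let π := QuotientGroup.lift Z₂ f hN
  have hker : π.ker = f.ker.map (QuotientGroup.mk' Z₂) := by
    ext c
    obtain ⟨c, rfl⟩ := QuotientGroup.mk'_surjective Z₂ c
    rw [MonoidHom.mem_ker]
    constructor
    · intro h
      exact ⟨c, h, rfl⟩
    · rintro ⟨d, hd, hdc⟩
      have h1 : f d = 1 := hd
      have h3 : π (QuotientGroup.mk' Z₂ d) = 1 := h1
      rwa [hdc] at h3
  have hcard : Nat.card π.ker = 4 := by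
    rw [hker]
    have h1 : Nat.card (f.ker.map (QuotientGroup.mk' Z₂)) * Nat.card Z₂ = Nat.card f.ker := by
      rw [← Subgroup.relIndex_ker, QuotientGroup.ker_mk', relIndex,
        ← Nat.card_congr (subgroupOfEquivOfLe hN).toEquiv]
      exact (Z₂.subgroupOf f.ker).index_mul_card
    rw [hc₁, hc₂] at h1
    have hpos : 0 < Nat.card Z₂ := Nat.card_pos
    have : Nat.card (f.ker.map (QuotientGroup.mk' Z₂)) * Nat.card Z₂ = 4 * Nat.card Z₂ := by
      rw [h1]; ring
    exact Nat.eq_of_mul_eq_mul_right hpos this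
  refine false_of_four (perfect_quot hK Z₂) (f := π) (fun y => ?_) ?_ hcard iso con
  · exact (hf y).imp' (QuotientGroup.mk' Z₂) fun x hx => hx
  · rw [hker]
    rintro _ ⟨d, hd, rfl⟩
    rw [mem_center_iff]
    intro g
    obtain ⟨g, rfl⟩ := QuotientGroup.mk'_surjective Z₂ g
    rw [← map_mul, ← map_mul, mem_center_iff.1 (hZ hd) g]

/-- The same for a central subgroup. -/
theorem card_le_two_of_quotient [Finite K] (hK : commutator K = ⊤) {Z : Subgroup K} [Z.Normal]
    (hZ : Z ≤ center K) (h2 : IsPGroup 2 Z) (e : Nonempty (K ⧸ Z ≃* X)) (iso : Iso.{u} X) (con : Con.{u} X) :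
    Nat.card Z ≤ 2 := by
  obtain ⟨e⟩ := e
  have hker : (e.toMonoidHom.comp (QuotientGroup.mk' Z)).ker = Z := by
    ext x
    rw [MonoidHom.mem_ker, ← QuotientGroup.eq_one_iff (N := Z)]
    exact map_eq_one_iff e e.injective
  have := card_le_two (f := e.toMonoidHom.comp (QuotientGroup.mk' Z)) hK
    (e.surjective.comp (QuotientGroup.mk'_surjective Z)) (by rwa [hker]) (by rwa [hker]) iso con
  rwa [hker] at this

end Cfsg.Agent.KFacts.MulEven

end

-- merged: Cfsg.Agent.KFacts.MulEven.Baby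
section

/-!
# The Baby Monster: a perfect central extension by a 2-group has kernel of order at most 2

`iso`: uniqueness of the double cover (`MonsterN.CoverB`).  `con`: with the relations `BRels m b z` the involution
`x = m 4 * m 7 * m 9` is conjugate to `x z`: `x z = W213 ^ 9 * x` and `x' = W231 ^ 9 * x'`, `x' = m 7 * m 4 * m 6`, are
both conjugate to the central involution of the `D₄` in the middle, and `x`, `x'` are conjugate.
-/

set_option autoImplicit false

namespace Cfsg.Agent.KFacts.MulEven.Baby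

open Subgroup Cfsg Cfsg.Agent.R01.Lifts Cfsg.Agent.MonsterN.CoverB Cfsg.Agent.TwoESix.Cox10
open Cfsg.Agent.KFacts.MulEven
open scoped commutatorElement

universe u v

/-- `x` -/
def p1 : List (Fin 10) := [4, 7, 9]
/-- `x'` -/
def p2 : List (Fin 10) := [7, 4, 6]
/-- conjugates `W213 ^ 9 * x` to the central involution of `D₄` -/
def g1 : List (Fin 10) := [8, 9, 1, 2, 3, 7, 8, 4, 3, 7, 2, 3, 4, 1, 2, 3, 7, 8, 2, 3, 4, 1, 2, 3]
/-- conjugates `W231 ^ 9 * x'` to the central involution of `D₄` -/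
def g2 : List (Fin 10) := [5, 6, 4, 5, 3, 4, 1, 2, 3, 7, 4, 5, 6, 1, 2, 3, 4, 5, 2, 3, 4, 1, 2, 3]
/-- conjugates `x` to `x'` -/
def k : List (Fin 10) := [8, 7, 9, 8, 3, 4, 5, 6, 7, 3, 4, 5]
/-- the central involution of `D₄` -/
def d4 : List (Fin 10) := rep 3 [3, 2, 4, 7]

theorem chk1 : chk (g1 ++ rep 9 W213 ++ p1) (d4 ++ g1) = true := by decide +kernel
theorem chk2 : chk (g2 ++ rep 9 W231 ++ p2) (d4 ++ g2) = true := by decide +kernel
theorem chk3 : chk (k ++ p1) (p2 ++ k) = true := by decide +kernel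
theorem chk4 : chk (p1 ++ p1) [] = true := by decide +kernel

theorem exists_conj {M : Type u} [Group M] {s : Fin 10 → M} {b z : M} (h : BRels s b z)
    (hz : ∀ g, g * z = z * g) : ∃ g x : M, x * x = 1 ∧ g * x * g⁻¹ = x * z := by
  have e1 := ev_eq_ev h.lift chk1
  have e2 := ev_eq_ev h.lift chk2
  have e3 := ev_eq_ev h.lift chk3
  have e4 := ev_eq_ev h.lift chk4
  simp only [ev_append, ev_rep, h.e213, h.e231, mul_one, ev_nil] at e1 e2 e3 e4
  set A := ev s k
  set B := ev s g2
  set C := ev s g1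
  set x := ev s p1
  have f : (A⁻¹ * B⁻¹ * C) * (z * x) = x * (A⁻¹ * B⁻¹ * C) := by
    calc (A⁻¹ * B⁻¹ * C) * (z * x) = A⁻¹ * B⁻¹ * (C * z * x) := by group
      _ = A⁻¹ * B⁻¹ * (ev s d4 * C) := by rw [e1]
      _ = A⁻¹ * (B⁻¹ * (ev s d4 * B)) * B⁻¹ * C := by group
      _ = A⁻¹ * (B⁻¹ * (B * ev s p2)) * B⁻¹ * C := by rw [e2]
      _ = A⁻¹ * (ev s p2 * A) * A⁻¹ * B⁻¹ * C := by group
      _ = A⁻¹ * (A * x) * A⁻¹ * B⁻¹ * C := by rw [e3]
      _ = x * (A⁻¹ * B⁻¹ * C) := by group
  refine ⟨(A⁻¹ * B⁻¹ * C)⁻¹, x, e4, ?_⟩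
  rw [inv_inv, mul_assoc, ← f, inv_mul_cancel_left, hz x]

theorem con : Con.{u} Spor.BabyMonster := by
  intro M _ π z h hperf
  obtain ⟨m, b, -, -, hr, -⟩ := exists_nodes h hperf
  exact exists_conj hr h.comm

theorem iso : Iso.{u} Spor.BabyMonster := by
  intro M M' _ _ π π' z z' h h' hM hM'
  obtain ⟨α, -, hα⟩ := exists_mulEquiv h h' hM hM'
  exact ⟨α, hα⟩

/-- **The 2-part of the multiplier of the Baby Monster.** -/
theorem card_le_two {X : Type v} [Group X] (e : X ≃* Spor.BabyMonster) {K : Type u} [Group K] [Finite K]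
    (hK : commutator K = ⊤) {f : K →* X} (hf : Function.Surjective f) (hZ : f.ker ≤ center K)
    (h2 : IsPGroup 2 f.ker) : Nat.card f.ker ≤ 2 := by
  have hker : (e.toMonoidHom.comp f).ker = f.ker := by
    ext x
    rw [MonoidHom.mem_ker, MonoidHom.mem_ker]
    exact map_eq_one_iff e e.injective
  have := MulEven.card_le_two (f := e.toMonoidHom.comp f) hK (e.surjective.comp hf) (by rwa [hker])
    (by rwa [hker]) iso con
  rwa [hker] at this

theorem card_center_le_two {K : Type u} [Group K] [Finite K] (hK : commutator K = ⊤)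
    (h2 : IsPGroup 2 (center K)) (e : Nonempty (K ⧸ center K ≃* Spor.BabyMonster)) :
    Nat.card (center K) ≤ 2 :=
  card_le_two_of_quotient hK le_rfl h2 e iso con

/-- `Dbl` and `Ext`. -/
theorem ext_of_dbl {X : Type v} [Group X] {L : Type u} [Group L] {π : L →* X} {c : L} (h : MulDef.Dbl π c) :
    Ext π c where
  surj := h.surj
  zz := h.sq
  zne := h.ne
  ker := h.ker
  comm := fun x => (h.cen x).symm

/-- The row of the Baby Monster in the form of `MulBound`. -/
theorem oneCover : MulBound.OneCover Spor.BabyMonster where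
  uniq := fun L M _ _ _ _ π ρ c d h1 h2 => iso L M π ρ c d (ext_of_dbl h1) (ext_of_dbl h2) h1.perf h2.perf
  real := fun L _ _ π c hd => by
    obtain ⟨g, x, hx, hg⟩ := con L π c (ext_of_dbl hd) hd.perf
    refine ⟨x, g, by rw [hx, map_one], ?_⟩
    have h1 : ⁅x, g⁆ = x * (g * x * g⁻¹)⁻¹ := by rw [commutatorElement_def]; group
    rw [h1, hg, ← hd.cen x, mul_inv_rev, mul_inv_cancel_left]
    exact inv_eq_of_mul_eq_one_left hd.sq

end Cfsg.Agent.KFacts.MulEven.Baby

end
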